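import Cfsg.Agent.H744.BR.SlMod
import Cfsg.Agent.H487.BR.TPrim
import Cfsg.Agent.H212.BR.Gen
import Cfsg.Agent.H982.TWModel
import Cfsg.Agent.LieClassical.SLGen
import Cfsg.Agent.S0242

/-!
# HUB BR: the family `SL_n(q)` (task 5785)
-/

set_option autoImplicit false
set_option linter.unusedSectionVars false

namespace Cfsg.Agent.H744.BR.SLn

open Cfsg.Agent.H883.BR Cfsg.Agent.H744.BR
open scoped Matrix commutatorElement

section rep

variable (n : ℕ) (F₀ : Type*) [Field F₀] (K : Type*) [Field K] [Algebra F₀ K]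

/-- the natural representation over `K` -/
noncomputable def rho : Matrix.SpecialLinearGroup (Fin n) F₀ →* Module.End K (Fin n → K) where
  toFun g := Matrix.toLin' (g.1.map (algebraMap F₀ K))
  map_one' := by
    show Matrix.toLin' ((1 : Matrix (Fin n) (Fin n) F₀).map (algebraMap F₀ K)) = 1
    rw [Matrix.map_one _ (map_zero _) (map_one _), Matrix.toLin'_one]
    rfl
  map_mul' g h := by
    show Matrix.toLin' ((g.1 * h.1).map (algebraMap F₀ K)) = _
    rw [Matrix.map_mul, Matrix.toLin'_mul]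
    rfl

variable {n F₀ K}

theorem rho_apply (g : Matrix.SpecialLinearGroup (Fin n) F₀) :
    rho n F₀ K g = Matrix.toLin' (g.1.map (algebraMap F₀ K)) := rfl

theorem rho_inj : Function.Injective (rho n F₀ K) := by
  intro g h hgh
  rw [rho_apply, rho_apply] at hgh
  have h1 := Matrix.toLin'.injective hgh
  apply Subtype.ext
  exact Matrix.map_injective (algebraMap F₀ K).injective h1

variable (K) in
/-- the vector `v` over `K` -/
def vk (v : Fin n → F₀) : Fin n → K := fun j => algebraMap F₀ K (v j)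

variable (K) in
/-- the functional `w` over `K` -/
def fn (w : Fin n → F₀) : (Fin n → K) →ₗ[K] K where
  toFun y := ∑ j, algebraMap F₀ K (w j) * y j
  map_add' x y := by
    simp only [Pi.add_apply, mul_add, Finset.sum_add_distrib]
  map_smul' c y := by
    simp only [Pi.smul_apply, smul_eq_mul, RingHom.id_apply, Finset.mul_sum]
    exact Finset.sum_congr rfl fun j _ => by ring

theorem fn_apply (w : Fin n → F₀) (y : Fin n → K) : fn K w y = ∑ j, algebraMap F₀ K (w j) * y j := rfl

theorem fn_vk (w v : Fin n → F₀) : fn K w (vk K v) = algebraMap F₀ K (w ⬝ᵥ v) := by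
  rw [fn_apply, dotProduct, map_sum]
  exact Finset.sum_congr rfl fun j _ => by rw [map_mul]; rfl

theorem fn_single (i : Fin n) (y : Fin n → K) : fn K (Pi.single i (1 : F₀)) y = y i := by
  rw [fn_apply, Finset.sum_eq_single i]
  · rw [Pi.single_eq_same, map_one, one_mul]
  · intro j _ hj
    rw [Pi.single_eq_of_ne hj, map_zero, zero_mul]
  · intro h
    exact absurd (Finset.mem_univ i) h

theorem vk_single (i : Fin n) : vk K (Pi.single i (1 : F₀)) = Pi.single i (1 : K) := by
  ext j
  change algebraMap F₀ K ((Pi.single i (1 : F₀) : Fin n → F₀) j) = (Pi.single i (1 : K) : Fin n → K) j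
  by_cases h : j = i
  · subst h
    rw [Pi.single_eq_same, Pi.single_eq_same, map_one]
  · rw [Pi.single_eq_of_ne h, Pi.single_eq_of_ne h, map_zero]

theorem vk_add (v w : Fin n → F₀) : vk K (v + w) = vk K v + vk K w := by
  ext j
  exact map_add _ _ _

theorem fn_sub (v w : Fin n → F₀) (y : Fin n → K) : fn K (v - w) y = fn K v y - fn K w y := by
  rw [fn_apply, fn_apply, fn_apply, ← Finset.sum_sub_distrib]
  exact Finset.sum_congr rfl fun j _ => by rw [Pi.sub_apply, map_sub, sub_mul]

variable (K) in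
/-- the endomorphism `v w` of rank one -/
noncomputable def ra (v w : Fin n → F₀) : Module.End K (Fin n → K) := (fn K w).smulRight (vk K v)

theorem ra_apply (v w : Fin n → F₀) (y : Fin n → K) : ra K v w y = fn K w y • vk K v := rfl

theorem ra_mul_mul (v w : Fin n → F₀) (X : Module.End K (Fin n → K)) :
    ra K v w * X * ra K v w = fn K w (X (vk K v)) • ra K v w := by
  refine LinearMap.ext fun y => ?_
  change ra K v w (X (ra K v w y)) = fn K w (X (vk K v)) • ra K v w y
  rw [ra_apply, ra_apply, map_smul, map_smul, smul_eq_mul, smul_smul, mul_comm]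

theorem ra_mul_mul' (v w v' w' : Fin n → F₀) :
    ra K v w * ra K v' w' * ra K v w = algebraMap F₀ K ((w ⬝ᵥ v') * (w' ⬝ᵥ v)) • ra K v w := by
  rw [ra_mul_mul, ra_apply, map_smul, fn_vk, fn_vk, smul_eq_mul, map_mul, mul_comm]

theorem ra_sq {v w : Fin n → F₀} (h : w ⬝ᵥ v = 0) : ra K v w * ra K v w = 0 := by
  refine LinearMap.ext fun y => ?_
  change ra K v w (ra K v w y) = 0
  rw [ra_apply, ra_apply, map_smul, fn_vk, h, map_zero, smul_zero, zero_smul]

theorem trace_ra (v w : Fin n → F₀) : LinearMap.trace K _ (ra K v w) = algebraMap F₀ K (w ⬝ᵥ v) := by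
  rw [ra, LinearMap.trace_smulRight, fn_vk]

theorem det_tv {v w : Fin n → F₀} (h : w ⬝ᵥ v = 0) (t : F₀) : (1 + Matrix.vecMulVec (t • v) w).det = 1 := by
  have h1 := Matrix.det_one_add_replicateCol_mul_replicateRow (ι := Unit) (t • v) w
  rw [dotProduct_smul, h, smul_zero, add_zero] at h1
  rw [← h1]
  congr 2
  rw [Matrix.vecMulVec_eq Unit]

/-- the transvection `1 + t v w` -/
noncomputable def tv {v w : Fin n → F₀} (h : w ⬝ᵥ v = 0) (t : F₀) : Matrix.SpecialLinearGroup (Fin n) F₀ :=
  ⟨1 + Matrix.vecMulVec (t • v) w, det_tv h t⟩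

theorem rho_tv {v w : Fin n → F₀} (h : w ⬝ᵥ v = 0) (t : F₀) :
    rho n F₀ K (tv h t) = 1 + algebraMap F₀ K t • ra K v w := by
  refine LinearMap.ext fun y => ?_
  rw [rho_apply, Matrix.toLin'_apply, LinearMap.add_apply, LinearMap.smul_apply, ra_apply, Module.End.one_apply]
  ext i
  change ∑ j, algebraMap F₀ K ((1 + Matrix.vecMulVec (t • v) w) i j) * y j = y i + algebraMap F₀ K t *
    (fn K w y * algebraMap F₀ K (v i))
  have h1 : ∀ j, algebraMap F₀ K ((1 + Matrix.vecMulVec (t • v) w) i j) * y j =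
      (if i = j then y j else 0) + algebraMap F₀ K t * ((algebraMap F₀ K (w j) * y j) * algebraMap F₀ K (v i)) := by
    intro j
    rw [Matrix.add_apply, Matrix.vecMulVec_apply, Matrix.one_apply, Pi.smul_apply, smul_eq_mul, map_add, map_mul,
      map_mul, add_mul]
    congr 1
    · split_ifs
      · rw [map_one, one_mul]
      · rw [map_zero, zero_mul]
    · ring
  rw [Finset.sum_congr rfl fun j _ => h1 j, Finset.sum_add_distrib, Finset.sum_ite_eq, if_pos (Finset.mem_univ _),
    ← Finset.mul_sum, ← Finset.sum_mul, fn_apply]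

theorem rho_transvection {i j : Fin n} (hij : i ≠ j) (t : F₀) :
    rho n F₀ K (Matrix.SpecialLinearGroup.transvection hij t) =
      1 + algebraMap F₀ K t • ra K (Pi.single i (1 : F₀)) (Pi.single j (1 : F₀)) := by
  have h0 : (Pi.single j (1 : F₀) : Fin n → F₀) ⬝ᵥ Pi.single i (1 : F₀) = 0 := by
    rw [single_dotProduct, Pi.single_eq_of_ne hij.symm, mul_zero]
  rw [← rho_tv h0]
  congr 1
  apply Subtype.ext
  change 1 + Matrix.single i j t = 1 + Matrix.vecMulVec (t • Pi.single i 1) (Pi.single j 1)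
  congr 1
  ext a b
  rw [Matrix.vecMulVec_apply, Pi.smul_apply, smul_eq_mul, Matrix.single_apply, Pi.single_apply, Pi.single_apply]
  by_cases h1 : i = a <;> by_cases h2 : j = b <;> simp [h1, h2, eq_comm]

/-- the matrix `X` is scalar if `w X v = 0` whenever `w v = 0` -/
theorem scalar_of_ra {X : Module.End K (Fin n → K)}
    (hX : ∀ v w : Fin n → F₀, w ⬝ᵥ v = 0 → fn K w (X (vk K v)) = 0) : ∃ c : K, X = c • 1 := by
  rcases isEmpty_or_nonempty (Fin n) with he | ⟨⟨i₀⟩⟩
  · exact ⟨0, LinearMap.ext fun y => funext fun i => (he.false i).elim⟩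
  have h1 : ∀ i j : Fin n, i ≠ j → X (Pi.single i (1 : K)) j = 0 := by
    intro i j hij
    have h2 := hX (Pi.single i 1) (Pi.single j 1) (by
      rw [single_dotProduct, Pi.single_eq_of_ne hij.symm, mul_zero])
    rwa [fn_single, vk_single] at h2
  have h2 : ∀ i j : Fin n, i ≠ j → X (Pi.single i (1 : K)) i = X (Pi.single j (1 : K)) j := by
    intro i j hij
    have h3 := hX (Pi.single i 1 + Pi.single j 1) (Pi.single i 1 - Pi.single j 1) (by
      rw [sub_dotProduct, dotProduct_add, dotProduct_add, single_dotProduct, single_dotProduct, single_dotProduct,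
        single_dotProduct, Pi.single_eq_same, Pi.single_eq_same, Pi.single_eq_of_ne hij, Pi.single_eq_of_ne hij.symm]
      ring)
    rw [fn_sub, fn_single, fn_single, vk_add, vk_single, vk_single, map_add, Pi.add_apply, Pi.add_apply,
      h1 j i hij.symm, h1 i j hij, add_zero, zero_add] at h3
    exact sub_eq_zero.1 h3
  refine ⟨X (Pi.single i₀ (1 : K)) i₀, ?_⟩
  refine LinearMap.pi_ext' fun i => LinearMap.ext_ring ?_
  ext j
  rw [LinearMap.comp_apply, LinearMap.comp_apply, LinearMap.smul_apply, Module.End.one_apply]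
  change X (Pi.single i (1 : K)) j = X (Pi.single i₀ (1 : K)) i₀ * (Pi.single i (1 : K) : Fin n → K) j
  by_cases hij : i = j
  · subst hij
    rw [Pi.single_eq_same, mul_one]
    by_cases h : i = i₀
    · rw [h]
    · exact h2 i i₀ h
  · rw [h1 i j hij, Pi.single_eq_of_ne (fun h => hij h.symm), mul_zero]

/-- the root elements -/
def rts (n : ℕ) (F₀ : Type*) [Field F₀] (K : Type*) [Field K] [Algebra F₀ K] : Set (Module.End K (Fin n → K)) :=
  {a | ∃ v w : Fin n → F₀, w ⬝ᵥ v = 0 ∧ v ≠ 0 ∧ w ≠ 0 ∧ a = ra K v w}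

theorem scalar_of_rts {X : Module.End K (Fin n → K)} (hX : ∀ a ∈ rts n F₀ K, a * X * a = 0) : ∃ c : K, X = c • 1 := by
  refine scalar_of_ra (F₀ := F₀) fun v w hvw => ?_
  by_cases hv : v = 0
  · subst hv
    have : vk K (0 : Fin n → F₀) = 0 := by
      ext j
      exact map_zero _
    rw [this, map_zero, map_zero]
  by_cases hw : w = 0
  · subst hw
    rw [fn_apply]
    exact Finset.sum_eq_zero fun j _ => by rw [Pi.zero_apply, map_zero, zero_mul]
  have h1 := hX _ ⟨v, w, hvw, hv, hw, rfl⟩
  rw [ra_mul_mul, smul_eq_zero] at h1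
  refine h1.resolve_right fun h0 => ?_
  obtain ⟨i, hi⟩ := Function.ne_iff.1 hv
  obtain ⟨j, hj⟩ := Function.ne_iff.1 hw
  have h2 := congrFun (LinearMap.congr_fun h0 (Pi.single j (1 : K))) i
  rw [ra_apply] at h2
  change fn K w (Pi.single j (1 : K)) * algebraMap F₀ K (v i) = 0 at h2
  rw [← vk_single (F₀ := F₀), fn_vk, dotProduct_single, mul_one, mul_eq_zero, map_eq_zero, map_eq_zero] at h2
  exact h2.elim hj hi

/-- not the union of two proper subspaces -/
theorem exists_notMem₂ {k M : Type*} [Field k] [AddCommGroup M] [Module k M] (U U' : Submodule k M) (hU : U ≠ ⊤)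
    (hU' : U' ≠ ⊤) : ∃ x, x ∉ U ∧ x ∉ U' := by
  obtain ⟨a, ha⟩ : ∃ a, a ∉ U := by
    by_contra hcon
    push Not at hcon
    exact hU (eq_top_iff.2 fun x _ => hcon x)
  obtain ⟨b, hb⟩ : ∃ b, b ∉ U' := by
    by_contra hcon
    push Not at hcon
    exact hU' (eq_top_iff.2 fun x _ => hcon x)
  by_cases ha' : a ∈ U'
  · by_cases hb' : b ∈ U
    · refine ⟨a + b, fun h => ha ?_, fun h => hb ?_⟩
      · exact (Submodule.add_mem_iff_left _ hb').1 h
      · exact (Submodule.add_mem_iff_right _ ha').1 h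
    · exact ⟨b, hb', hb⟩
  · exact ⟨a, ha, ha'⟩

/-- the hyperplane `v ᗮ` -/
def perp (v : Fin n → F₀) : Submodule F₀ (Fin n → F₀) where
  carrier := {w | w ⬝ᵥ v = 0}
  zero_mem' := zero_dotProduct v
  add_mem' := fun {a b} ha hb => by
    change (a + b) ⬝ᵥ v = 0
    rw [add_dotProduct, show a ⬝ᵥ v = 0 from ha, show b ⬝ᵥ v = 0 from hb, add_zero]
  smul_mem' := fun c a ha => by
    change (c • a) ⬝ᵥ v = 0
    rw [smul_dotProduct, show a ⬝ᵥ v = 0 from ha, smul_zero]

theorem mem_perp {v w : Fin n → F₀} : w ∈ perp v ↔ w ⬝ᵥ v = 0 := Iff.rfl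

theorem perp_ne_top {v : Fin n → F₀} (hv : v ≠ 0) : perp v ≠ ⊤ := by
  intro h
  apply hv
  ext i
  have : Pi.single i (1 : F₀) ∈ perp v := by
    rw [h]
    trivial
  rw [mem_perp, single_dotProduct, one_mul] at this
  exact this

/-- if `perp x ≤ perp v` then `v` is a multiple of `x` -/
theorem smul_of_perp_le {x v : Fin n → F₀} (hx : x ≠ 0) (h : perp x ≤ perp v) : ∃ c : F₀, v = c • x := by
  obtain ⟨i, hi⟩ := Function.ne_iff.1 hx
  rw [Pi.zero_apply] at hi
  refine ⟨v i / x i, ?_⟩
  ext j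
  rw [Pi.smul_apply, smul_eq_mul]
  have h1 : (x i • Pi.single j (1 : F₀) - x j • Pi.single i (1 : F₀) : Fin n → F₀) ∈ perp x := by
    rw [mem_perp, sub_dotProduct, smul_dotProduct, smul_dotProduct, single_dotProduct, single_dotProduct, one_mul,
      one_mul, smul_eq_mul, smul_eq_mul, mul_comm, sub_self]
  have h2 := h h1
  rw [mem_perp, sub_dotProduct, smul_dotProduct, smul_dotProduct, single_dotProduct, single_dotProduct, one_mul,
      one_mul, smul_eq_mul, smul_eq_mul, sub_eq_zero] at h2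
  field_simp
  linear_combination h2

/-- two root elements are joined in two steps -/
theorem join {v w v' w' : Fin n → F₀} (h : w ⬝ᵥ v = 0) (hw : w ≠ 0) (h' : w' ⬝ᵥ v' = 0) (hv : v ≠ 0) (hv' : v' ≠ 0)
    (hw' : w' ≠ 0) : ∃ x y : Fin n → F₀, y ⬝ᵥ x = 0 ∧ y ⬝ᵥ v ≠ 0 ∧ w ⬝ᵥ x ≠ 0 ∧ y ⬝ᵥ v' ≠ 0 ∧ w' ⬝ᵥ x ≠ 0 := by
  obtain ⟨x, hx, hx'⟩ := exists_notMem₂ (perp w) (perp w') (perp_ne_top hw) (perp_ne_top hw')
  rw [mem_perp, dotProduct_comm] at hx hx'
  have hx0 : x ≠ 0 := by
    rintro rfl
    exact hx (dotProduct_zero _)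
  have key : ∀ {v w : Fin n → F₀}, w ⬝ᵥ v = 0 → v ≠ 0 → w ⬝ᵥ x ≠ 0 → (perp v).comap (perp x).subtype ≠ ⊤ := by
    intro v w h hv hx htop
    have h1 : perp x ≤ perp v := by
      intro y hy
      have : (⟨y, hy⟩ : perp x) ∈ (perp v).comap (perp x).subtype := by
        rw [htop]
        trivial
      exact this
    obtain ⟨c, rfl⟩ := smul_of_perp_le hx0 h1
    rw [dotProduct_smul, smul_eq_zero] at h
    rcases h with h | h
    · exact hv (by rw [h, zero_smul])
    · exact hx h
  obtain ⟨⟨y, hy⟩, hy1, hy2⟩ := exists_notMem₂ _ _ (key h hv hx) (key h' hv' hx')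
  exact ⟨x, y, hy, hy1, hx, hy2, hx'⟩

theorem single_mem_span {i j : Fin n} (hij : i ≠ j) :
    ra K (Pi.single i (1 : F₀)) (Pi.single j (1 : F₀)) ∈ Submodule.span K (rts n F₀ K) := by
  refine Submodule.subset_span ⟨_, _, ?_, ?_, ?_, rfl⟩
  · rw [single_dotProduct, Pi.single_eq_of_ne hij.symm, mul_zero]
  · intro h
    have := congrFun h i
    rw [Pi.single_eq_same, Pi.zero_apply] at this
    exact one_ne_zero this
  · intro h
    have := congrFun h j
    rw [Pi.single_eq_same, Pi.zero_apply] at this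
    exact one_ne_zero this

theorem diag_mem_span (i j : Fin n) :
    ra K (Pi.single i (1 : F₀)) (Pi.single i (1 : F₀)) - ra K (Pi.single j (1 : F₀)) (Pi.single j (1 : F₀)) ∈
      Submodule.span K (rts n F₀ K) := by
  by_cases hij : i = j
  · subst hij
    rw [sub_self]
    exact zero_mem _
  have h1 : ra K (Pi.single i (1 : F₀) + Pi.single j (1 : F₀) : Fin n → F₀)
        (Pi.single i (1 : F₀) - Pi.single j (1 : F₀) : Fin n → F₀) ∈
      Submodule.span K (rts n F₀ K) := by
    refine Submodule.subset_span ⟨_, _, ?_, ?_, ?_, rfl⟩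
    · rw [sub_dotProduct, dotProduct_add, dotProduct_add, single_dotProduct, single_dotProduct, single_dotProduct,
        single_dotProduct, Pi.single_eq_same, Pi.single_eq_same, Pi.single_eq_of_ne hij,
        Pi.single_eq_of_ne (Ne.symm hij)]
      ring
    · intro h
      have := congrFun h i
      rw [Pi.add_apply, Pi.single_eq_same, Pi.zero_apply, Pi.single_eq_of_ne hij, add_zero] at this
      exact one_ne_zero this
    · intro h
      have := congrFun h i
      rw [Pi.sub_apply, Pi.single_eq_same, Pi.zero_apply, Pi.single_eq_of_ne hij, sub_zero] at this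
      exact one_ne_zero this
  have h2 : ra K (Pi.single i (1 : F₀)) (Pi.single i (1 : F₀)) - ra K (Pi.single j (1 : F₀)) (Pi.single j (1 : F₀)) =
      ra K (Pi.single i (1 : F₀) + Pi.single j (1 : F₀) : Fin n → F₀)
        (Pi.single i (1 : F₀) - Pi.single j (1 : F₀) : Fin n → F₀) +
        ra K (Pi.single i (1 : F₀)) (Pi.single j (1 : F₀)) - ra K (Pi.single j (1 : F₀)) (Pi.single i (1 : F₀)) := by
    refine LinearMap.ext fun y => ?_
    rw [LinearMap.sub_apply, LinearMap.sub_apply, LinearMap.add_apply, ra_apply, ra_apply, ra_apply, ra_apply, ra_apply,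
      fn_sub, vk_add]
    module
  rw [h2]
  exact sub_mem (add_mem h1 (single_mem_span hij)) (single_mem_span (Ne.symm hij))

/-- the root elements span `sl` -/
theorem sl_le_span (hn : 1 ≤ n) : Sl K (Fin n → K) ≤ Submodule.span K (rts n F₀ K) := by
  intro X hX
  rw [mem_Sl] at hX
  let k : Fin n := ⟨0, hn⟩
  have h1 : ∀ Y : Module.End K (Fin n → K), Y = ∑ i, ∑ j, Y (Pi.single j (1 : K)) i •
      ra K (Pi.single i (1 : F₀)) (Pi.single j (1 : F₀)) := by
    intro Y
    refine LinearMap.pi_ext' fun j => LinearMap.ext_ring ?_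
    ext i
    rw [LinearMap.comp_apply, LinearMap.comp_apply, LinearMap.sum_apply, Finset.sum_apply, Finset.sum_eq_single i]
    · rw [LinearMap.sum_apply, Finset.sum_apply, Finset.sum_eq_single j]
      · rw [LinearMap.smul_apply, ra_apply, fn_single, vk_single]
        change Y (Pi.single j (1 : K)) i = Y (Pi.single j (1 : K)) i * ((Pi.single j (1 : K) : Fin n → K) j *
          (Pi.single i (1 : K) : Fin n → K) i)
        rw [Pi.single_eq_same, Pi.single_eq_same, mul_one, mul_one]
      · intro b _ hb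
        rw [LinearMap.smul_apply, ra_apply, fn_single, vk_single]
        change Y (Pi.single b (1 : K)) i * ((Pi.single j (1 : K) : Fin n → K) b * (Pi.single i (1 : K) : Fin n → K) i) = 0
        rw [Pi.single_eq_of_ne hb, zero_mul, mul_zero]
      · intro h
        exact absurd (Finset.mem_univ _) h
    · intro b _ hb
      rw [LinearMap.sum_apply, Finset.sum_apply]
      refine Finset.sum_eq_zero fun c _ => ?_
      rw [LinearMap.smul_apply, ra_apply, fn_single, vk_single]
      change Y (Pi.single c (1 : K)) b * ((Pi.single j (1 : K) : Fin n → K) c * (Pi.single b (1 : K) : Fin n → K) i) = 0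
      rw [Pi.single_eq_of_ne (Ne.symm hb), mul_zero, mul_zero]
    · intro h
      exact absurd (Finset.mem_univ _) h
  have h2 : ∑ i, X (Pi.single i (1 : K)) i = 0 := by
    rw [h1 X, map_sum] at hX
    rw [← hX]
    refine Finset.sum_congr rfl fun i _ => ?_
    rw [map_sum, Finset.sum_eq_single i]
    · rw [map_smul, trace_ra, single_dotProduct, Pi.single_eq_same, one_mul, map_one, smul_eq_mul, mul_one]
    · intro j _ hj
      rw [map_smul, trace_ra, single_dotProduct, Pi.single_eq_of_ne hj, mul_zero, map_zero, smul_zero]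
    · intro h
      exact absurd (Finset.mem_univ _) h
  have h3 : X = (∑ i, ∑ j, X (Pi.single j (1 : K)) i • (ra K (Pi.single i (1 : F₀)) (Pi.single j (1 : F₀)) -
      (if i = j then ra K (Pi.single k (1 : F₀)) (Pi.single k (1 : F₀)) else 0))) := by
    have h4 : (∑ i, ∑ j, X (Pi.single j (1 : K)) i •
        (if i = j then ra K (Pi.single k (1 : F₀)) (Pi.single k (1 : F₀)) else 0)) = 0 := by
      have h5 : (∑ i, X (Pi.single i (1 : K)) i) • ra K (Pi.single k (1 : F₀)) (Pi.single k (1 : F₀)) = 0 := by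
        rw [h2, zero_smul]
      rw [Finset.sum_smul] at h5
      refine Eq.trans (Finset.sum_congr rfl fun i _ => ?_) h5
      rw [Finset.sum_eq_single i]
      · rw [if_pos rfl]
      · intro j _ hj
        rw [if_neg (Ne.symm hj), smul_zero]
      · intro h
        exact absurd (Finset.mem_univ _) h
    simp only [smul_sub, Finset.sum_sub_distrib]
    rw [h4, sub_zero]
    exact h1 X
  rw [h3]
  refine Submodule.sum_mem _ fun i _ => Submodule.sum_mem _ fun j _ => Submodule.smul_mem _ _ ?_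
  by_cases hij : i = j
  · subst hij
    rw [if_pos rfl]
    exact diag_mem_span i k
  · rw [if_neg hij, sub_zero]
    exact single_mem_span hij

/-- irreducible -/
theorem irr (hn : 2 ≤ n) : Irr (rho n F₀ K) ⊤ := by
  have hnt : Nonempty (Fin n) := ⟨⟨0, by omega⟩⟩
  refine ⟨inferInstance, fun U hU => ?_⟩
  by_cases h : U = ⊥
  · exact Or.inl h
  right
  obtain ⟨u, hu, hu0⟩ := Submodule.exists_mem_ne_zero_of_ne_bot h
  obtain ⟨j, hj⟩ := Function.ne_iff.1 hu0
  rw [Pi.zero_apply] at hj
  have step : ∀ {j : Fin n} {u : Fin n → K}, u ∈ U → u j ≠ 0 → ∀ i, i ≠ j → Pi.single i (1 : K) ∈ U := by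
    intro j u hu hj i hij
    have h1 := hU (Matrix.SpecialLinearGroup.transvection hij 1) (Subgroup.mem_top _) u hu
    rw [rho_transvection, map_one, one_smul, LinearMap.add_apply, Module.End.one_apply, ra_apply, fn_single,
      vk_single] at h1
    have h2 := (Submodule.add_mem_iff_right _ hu).1 h1
    exact (Submodule.smul_mem_iff _ hj).1 h2
  have h1 : ∀ i, Pi.single i (1 : K) ∈ U := by
    intro i
    by_cases hij : i = j
    · obtain ⟨i', hi'⟩ : ∃ i' : Fin n, i' ≠ j := by
        have : Nontrivial (Fin n) := Fin.nontrivial_iff_two_le.2 hn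
        exact exists_ne j
      have h2 := step hu hj i' hi'
      refine step h2 ?_ i (hij ▸ hi'.symm)
      rw [Pi.single_eq_same]
      exact one_ne_zero
    · exact step hu hj i hij
  rw [eq_top_iff]
  intro x _
  rw [pi_eq_sum_univ' x]
  exact Submodule.sum_mem _ fun i _ => Submodule.smul_mem _ _ (by
    have := h1 i
    convert this using 1)

end rep

/-! ### the group -/

section grp

variable {n : ℕ} {F : Type} [Field F] [Fintype F]

theorem qs (hn : 2 ≤ n) (h4 : 4 ≤ Fintype.card F) : QS (Matrix.SpecialLinearGroup (Fin n) F) where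
  perf := Cfsg.Agent.H982.TWModel.perfect_sl hn fun _ => h4
  nt := by
    have : Nontrivial (Fin n) := Fin.nontrivial_iff_two_le.2 hn
    obtain ⟨i, j, hij⟩ := exists_pair_ne (Fin n)
    refine ⟨Matrix.SpecialLinearGroup.transvection hij 1, 1, fun h => ?_⟩
    have h1 : Matrix.SpecialLinearGroup.transvection hij (1 : F) ∈ Subgroup.center _ := by
      rw [h]
      exact one_mem _
    exact one_ne_zero ((Matrix.SpecialLinearGroup.transvection_mem_center_iff hij 1).1 h1)
  max N hN := by
    have : Nontrivial (Fin n) := Fin.nontrivial_iff_two_le.2 hn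
    have hperf := Cfsg.Agent.H982.TWModel.perfect_sl hn fun _ => h4
    have hs := Cfsg.Agent.LieClassical.SLGen.psl_isSimpleGroup_of_perfect (ι := Fin n) (F := F) hperf
    let π : Matrix.SpecialLinearGroup (Fin n) F →* Matrix.ProjectiveSpecialLinearGroup (Fin n) F :=
      QuotientGroup.mk' (Subgroup.center (Matrix.SpecialLinearGroup (Fin n) F))
    have hπ : Function.Surjective π := QuotientGroup.mk'_surjective _
    have hN' : (N.map π).Normal := hN.map π hπ
    rcases hN'.eq_bot_or_eq_top with h | h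
    · left
      rw [Subgroup.map_eq_bot_iff] at h
      rwa [QuotientGroup.ker_mk'] at h
    · right
      -- `G = N Z`, so `G / N` is commutative
      have h1 : ∀ g, ∃ m ∈ N, ∃ z ∈ Subgroup.center (Matrix.SpecialLinearGroup (Fin n) F), g = m * z := by
        intro g
        have h2 : π g ∈ N.map π := by
          rw [h]
          trivial
        obtain ⟨m, hm, hmg⟩ := h2
        exact ⟨m, hm, m⁻¹ * g, QuotientGroup.eq.1 hmg, by group⟩
      rw [eq_top_iff, ← hperf, commutator_def, Subgroup.commutator_le]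
      rintro a - b -
      obtain ⟨m, hm, z, hz, rfl⟩ := h1 a
      obtain ⟨m', hm', z', hz', rfl⟩ := h1 b
      have e : ⁅m * z, m' * z'⁆ = ⁅m, m'⁆ := by
        rw [Subgroup.mem_center_iff] at hz hz'
        have e1 : m * z * (m' * z') * (m * z)⁻¹ = m * m' * z' * m⁻¹ := by
          have := hz (m' * z')
          calc m * z * (m' * z') * (m * z)⁻¹ = m * (z * (m' * z')) * z⁻¹ * m⁻¹ := by group
            _ = m * ((m' * z') * z) * z⁻¹ * m⁻¹ := by rw [this]
            _ = _ := by group
        have e2 : m * m' * z' * m⁻¹ = m * m' * m⁻¹ * z' := by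
          have := hz' m⁻¹
          calc m * m' * z' * m⁻¹ = m * m' * (z' * m⁻¹) := by group
            _ = m * m' * (m⁻¹ * z') := by rw [this]
            _ = _ := by group
        rw [commutatorElement_def, commutatorElement_def, e1, e2]
        group
      rw [e, commutatorElement_def]
      exact mul_mem (mul_mem (mul_mem hm hm') (inv_mem hm)) (inv_mem hm')

theorem card_le (hn : 2 ≤ n) :
    Nat.card (Matrix.SpecialLinearGroup (Fin n) F) ≤ 2 * Fintype.card F ^ (n ^ 2 - 1) := by
  set q := Fintype.card F with hq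
  have h2 : 2 ≤ q := Fintype.one_lt_card
  have h1 := Cfsg.Agent.S0242.result hq.symm n (by omega)
  have h3 : ∏ i : Fin n, (q ^ n - q ^ (i : ℕ)) ≤ ∏ _i : Fin n, q ^ n :=
    Finset.prod_le_prod' fun i _ => Nat.sub_le _ _
  rw [Finset.prod_const, Finset.card_univ, Fintype.card_fin, ← pow_mul, ← sq] at h3
  have h4 : q ^ n ^ 2 = q * q ^ (n ^ 2 - 1) := by
    rw [← pow_succ']
    congr 1
    have : 1 ≤ n ^ 2 := Nat.one_le_pow _ _ (by omega)
    omega
  rw [← h1, h4] at h3
  have h5 : (q - 1) * Nat.card (Matrix.SpecialLinearGroup (Fin n) F) ≤ (q - 1) * (2 * q ^ (n ^ 2 - 1)) := by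
    refine h3.trans ?_
    rw [← mul_assoc]
    exact Nat.mul_le_mul_right _ (by omega)
  exact Nat.le_of_mul_le_mul_left h5 (by omega)

theorem le_card_quot (hn : 2 ≤ n) : Fintype.card F ≤
    Nat.card (Matrix.SpecialLinearGroup (Fin n) F ⧸ Subgroup.center (Matrix.SpecialLinearGroup (Fin n) F)) := by
  have : Nontrivial (Fin n) := Fin.nontrivial_iff_two_le.2 hn
  obtain ⟨i, j, hij⟩ := exists_pair_ne (Fin n)
  rw [← Nat.card_eq_fintype_card]
  refine Nat.card_le_card_of_injective (fun t : F =>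
    (QuotientGroup.mk (Matrix.SpecialLinearGroup.transvection hij t) : Matrix.SpecialLinearGroup (Fin n) F ⧸ Subgroup.center _))
    fun s t hst => ?_
  have h1 := QuotientGroup.eq.1 hst
  rw [Matrix.SpecialLinearGroup.transvection_inv, ← Matrix.SpecialLinearGroup.transvection_add,
    Matrix.SpecialLinearGroup.transvection_mem_center_iff] at h1
  rw [neg_add_eq_zero] at h1
  exact h1

end grp

/-! ### the family -/

section fam

open Cfsg.Agent.H212.BR

variable {n : ℕ} {F : Type} [Field F] [Fintype F]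

/-- the root groups -/
noncomputable def xr (ij : {ij : Fin n × Fin n // ij.1 ≠ ij.2}) (t : base F) : Matrix.SpecialLinearGroup (Fin n) F :=
  Matrix.SpecialLinearGroup.transvection ij.2 ((baseEquiv F).symm t)

theorem algebraMap_symm (t : base F) : algebraMap F (AlgebraicClosure F) ((baseEquiv F).symm t) = t := by
  rw [← baseEquiv_apply, RingEquiv.apply_symm_apply]

theorem oneP : OneP (base F) (xr (n := n) (F := F)) where
  add ij s t := by
    rw [xr, map_add, Matrix.SpecialLinearGroup.transvection_add]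
    rfl
  gen := by
    rw [eq_top_iff, ← Cfsg.Agent.LieClassical.SLGen.closure_transvections]
    refine Subgroup.closure_mono ?_
    rintro _ ⟨i, j, hij, c, rfl⟩
    refine ⟨⟨(i, j), hij⟩, baseEquiv F c, ?_⟩
    rw [xr, RingEquiv.symm_apply_apply]

theorem polyDeg : PolyDeg (rho n F (AlgebraicClosure F)) (base F) (xr (n := n) (F := F)) 1 := by
  intro ij
  refine ⟨fun j => if j = 0 then 1 else ra (AlgebraicClosure F) (Pi.single ij.1.1 (1 : F)) (Pi.single ij.1.2 (1 : F)),
    fun t => ?_⟩
  rw [Finset.sum_range_succ, Finset.sum_range_one, pow_zero, one_smul, pow_one]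
  beta_reduce
  rw [if_pos rfl, if_neg one_ne_zero, xr, rho_transvection, algebraMap_symm]

theorem rt_rts {a : Module.End (AlgebraicClosure F) (Fin n → AlgebraicClosure F)}
    (ha : a ∈ rts n F (AlgebraicClosure F)) : Rt (rho n F (AlgebraicClosure F)) (base F) ⊤ a := by
  obtain ⟨v, w, h, -, -, rfl⟩ := ha
  refine ⟨ra_sq h, fun t ht => ⟨tv h ((baseEquiv F).symm ⟨t, ht⟩), Subgroup.mem_top _, ?_⟩⟩
  rw [rho_tv, algebraMap_symm]

theorem conn (h3 : 3 ≤ Fintype.card F) {S : Submodule (AlgebraicClosure F) (Module.End (AlgebraicClosure F) (Fin n → AlgebraicClosure F))}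
    (hS : Inv (ad (rho n F (AlgebraicClosure F))) ⊤ S) {a b : Module.End (AlgebraicClosure F) (Fin n → AlgebraicClosure F)}
    (ha : a ∈ rts n F (AlgebraicClosure F)) (haS : a ∈ S) (hb : b ∈ rts n F (AlgebraicClosure F)) : b ∈ S := by
  have hfin := finite_base F
  have h3' : 3 ≤ Nat.card (base F) := by rw [card_base, Nat.card_eq_fintype_card]; exact h3
  obtain ⟨v, w, h, hv, hw, rfl⟩ := ha
  obtain ⟨v', w', h', hv', hw', rfl⟩ := hb
  obtain ⟨x, y, hxy, h1, h2, h4, h5⟩ := join h hw h' hv hv' hw'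
  have hx0 : x ≠ 0 := by
    rintro rfl
    exact h2 (dotProduct_zero _)
  have hy0 : y ≠ 0 := by
    rintro rfl
    exact h1 (zero_dotProduct _)
  have hc : ra (AlgebraicClosure F) x y ∈ rts n F (AlgebraicClosure F) := ⟨x, y, hxy, hx0, hy0, rfl⟩
  have m1 := (root_mem h3' hS (rt_rts hc) haS).2
  rw [ra_mul_mul', Submodule.smul_mem_iff _ (by
    rw [Ne, map_eq_zero, mul_eq_zero, not_or]
    exact ⟨h1, h2⟩)] at m1
  have m2 := (root_mem h3' hS (rt_rts ⟨v', w', h', hv', hw', rfl⟩) m1).2
  rw [ra_mul_mul', Submodule.smul_mem_iff _ (by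
    rw [Ne, map_eq_zero, mul_eq_zero, not_or]
    exact ⟨h5, h4⟩)] at m2
  exact m2

theorem trace_rho (g : Matrix.SpecialLinearGroup (Fin n) F) :
    LinearMap.trace (AlgebraicClosure F) _ (rho n F (AlgebraicClosure F) g) ∈ base F := by
  rw [rho_apply, Matrix.trace_toLin'_eq, mem_base]
  refine ⟨g.1.trace, ?_⟩
  rw [Matrix.trace, Matrix.trace, map_sum]
  rfl

theorem pw (hn : 2 ≤ n) (k : ℕ) (hk : 0 < k) (hk' : 2 * k + 1 < Fintype.card F) :
    ∃ g : Matrix.SpecialLinearGroup (Fin n) F, ad (rho n F (AlgebraicClosure F)) (g ^ k) ≠ 1 := by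
  have : Nontrivial (Fin n) := Fin.nontrivial_iff_two_le.2 hn
  obtain ⟨i, j, hij⟩ := exists_pair_ne (Fin n)
  obtain ⟨u, hu⟩ := IsCyclic.exists_generator (α := Fˣ)
  have hord : orderOf u = Fintype.card F - 1 := by
    rw [orderOf_eq_card_of_forall_mem_zpowers hu, Nat.card_units, Nat.card_eq_fintype_card]
  have hd : (Matrix.diagonal (fun k : Fin n => if k = i then (u : F) else if k = j then ((u⁻¹ : Fˣ) : F) else 1)).det
      = 1 := by
    rw [Matrix.det_diagonal, Fintype.prod_eq_mul i j hij]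
    · rw [if_pos rfl, if_neg hij.symm, if_pos rfl, Units.mul_inv]
    · rintro x ⟨h1, h2⟩
      rw [if_neg h1, if_neg h2]
  refine ⟨⟨_, hd⟩, fun h => ?_⟩
  set g : Matrix.SpecialLinearGroup (Fin n) F := ⟨_, hd⟩ with hg
  have h1 : ad (rho n F (AlgebraicClosure F)) (g ^ k) (ra (AlgebraicClosure F) (Pi.single i (1 : F)) (Pi.single j (1 : F))) =
      ra (AlgebraicClosure F) (Pi.single i (1 : F)) (Pi.single j (1 : F)) := by
    rw [h]
    rfl
  have h2 : rho n F (AlgebraicClosure F) (g ^ k) * ra (AlgebraicClosure F) (Pi.single i (1 : F)) (Pi.single j (1 : F)) =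
      ra (AlgebraicClosure F) (Pi.single i (1 : F)) (Pi.single j (1 : F)) * rho n F (AlgebraicClosure F) (g ^ k) := by
    rw [ad_apply] at h1
    calc _ = rho n F (AlgebraicClosure F) (g ^ k) * ra (AlgebraicClosure F) (Pi.single i (1 : F)) (Pi.single j (1 : F)) *
          rho n F (AlgebraicClosure F) (g ^ k)⁻¹ * rho n F (AlgebraicClosure F) (g ^ k) := by
          rw [mul_assoc, ← map_mul, inv_mul_cancel, map_one, mul_one]
      _ = _ := by rw [h1]
  have hgk : ((g ^ k : Matrix.SpecialLinearGroup (Fin n) F) : Matrix (Fin n) (Fin n) F) =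
      Matrix.diagonal (fun a : Fin n => (if a = i then (u : F) else if a = j then ((u⁻¹ : Fˣ) : F) else 1) ^ k) := by
    rw [Matrix.SpecialLinearGroup.coe_pow, hg, Matrix.diagonal_pow]
    rfl
  have hρ : ∀ (a : Fin n), rho n F (AlgebraicClosure F) (g ^ k) (Pi.single a 1) =
      algebraMap F (AlgebraicClosure F) ((if a = i then (u : F) else if a = j then ((u⁻¹ : Fˣ) : F) else 1) ^ k) •
        Pi.single a 1 := by
    intro a
    rw [rho_apply, Matrix.toLin'_apply, hgk]
    ext b
    rw [Matrix.mulVec_single_one, Matrix.col_apply, Matrix.map_apply, Matrix.diagonal_apply, Pi.smul_apply, smul_eq_mul]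
    by_cases hab : b = a
    · subst hab
      rw [if_pos rfl, Pi.single_eq_same, mul_one]
    · rw [if_neg hab, Pi.single_eq_of_ne hab, map_zero, mul_zero]
  have h3 := LinearMap.congr_fun h2 (Pi.single j 1)
  rw [Module.End.mul_apply, Module.End.mul_apply, hρ j, map_smul, ra_apply, fn_single, Pi.single_eq_same, one_smul,
    vk_single, hρ i, if_pos rfl, if_neg hij.symm, if_pos rfl] at h3
  have h4 := congrFun h3 i
  rw [Pi.smul_apply, Pi.smul_apply, Pi.single_eq_same, smul_eq_mul, smul_eq_mul, mul_one, mul_one] at h4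
  have h5 := (algebraMap F (AlgebraicClosure F)).injective h4
  have h6 : u ^ (2 * k) = 1 := by
    have h7 : u ^ k = u⁻¹ ^ k := by
      apply Units.ext
      rw [Units.val_pow_eq_pow_val, Units.val_pow_eq_pow_val]
      exact h5
    rw [two_mul, pow_add]
    nth_rewrite 2 [h7]
    rw [← mul_pow, mul_inv_cancel, one_pow]
  have h7 := Nat.le_of_dvd (by omega) (orderOf_dvd_of_pow_eq_one h6)
  omega

end fam

open Cfsg.Agent.H212.BR in
/-- **F-SL** -/
theorem fam_sl (n : ℕ) (hn : 2 ≤ n) : ∃ q₀ : ℕ, ∀ (F : Type) [Field F] [Fintype F], q₀ ≤ Fintype.card F →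
    HasFam.{0, 0} n (Fintype.card F) (Matrix.SpecialLinearGroup (Fin n) F) := by
  obtain ⟨q₁, hq₁⟩ := count_of_card.{0} (n ^ 2 - 1) 2
  refine ⟨q₁ + 2 * n ^ 2 + 5, fun F _ _ hF => ?_⟩
  obtain ⟨p, hc⟩ := CharP.exists F
  have hp : p.Prime := CharP.char_is_prime F p
  have hfin := finite_base F
  have hcard : Nat.card (base F) = Fintype.card F := by rw [card_base, Nat.card_eq_fintype_card]
  have h3' : 3 ≤ Nat.card (base F) := by omega
  have hqs := qs (F := F) hn (by omega)
  have hsub := sl_sub (F := base F) h3' (ρ := rho n F (AlgebraicClosure F)) (rts n F (AlgebraicClosure F))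
    (fun a ha => rt_rts ha)
    (by
      rintro a ⟨v, w, -, -, -, rfl⟩ X
      exact ⟨_, ra_mul_mul v w X⟩)
    (fun S hS a ha haS b hb => conn (by omega) hS ha haS hb) (sl_le_span (by omega)) (fun X hX => scalar_of_rts (F₀ := F) hX)
  refine ⟨p, n ^ 2 - 1, AlgebraicClosure F, inferInstance, base F, Fin n → AlgebraicClosure F,
    SlW (AlgebraicClosure F) (Fin n → AlgebraicClosure F), inferInstance, inferInstance, inferInstance, inferInstance,
    rho n F (AlgebraicClosure F), sg (rho n F (AlgebraicClosure F)), ?_⟩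
  refine fam_core hp (charP_closure F p) inferInstance (locfin F) hfin hcard inferInstance hqs inferInstance
    (by rw [Module.finrank_fin_fun]) hn rho_inj (irr hn) ?_ ⟨_, xr, oneP, polyDeg⟩ hsub ?_ ?_ (by omega) (pw hn)
  · refine Cfsg.Agent.H487.BR.tprim_of_rank_one h3' (rts n F (AlgebraicClosure F)) (fun a ha => ⟨rt_rts ha, ?_⟩) ?_ ?_
    · obtain ⟨v, w, -, -, -, rfl⟩ := ha
      exact ⟨vk _ v, fn _ w, fun y => rfl⟩
    · intro X hX
      refine scalar_of_rts (F₀ := F) fun a ha => ?_
      rw [hX a ha, mul_assoc, (rt_rts ha).1, mul_zero]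
    · rintro S hS ⟨a, ha, -, haS⟩ b hb
      exact conn (by omega) hS ha haS hb
  · exact hq₁ (Fintype.card F) _ (by omega) hqs (le_card_quot hn) (card_le hn)
  · intro g
    exact mul_mem (trace_rho g) (trace_rho g⁻¹)

end Cfsg.Agent.H744.BR.SLn

namespace Cfsg.Agent.H744.BR

open Cfsg.Agent.H883.BR in
theorem fam_sl (n : ℕ) (hn : 2 ≤ n) : ∃ q₀ : ℕ, ∀ (F : Type) [Field F] [Fintype F], q₀ ≤ Fintype.card F →
    HasFam.{0, 0} n (Fintype.card F) (Matrix.SpecialLinearGroup (Fin n) F) := SLn.fam_sl n hn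

end Cfsg.Agent.H744.BR
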