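import Cfsg.Agent.H883.BR.Fam
import Cfsg.Agent.H583.BR.Trn
import Cfsg.Agent.H666.TraceZero

/-!
# HUB BR: the module `sl / (sl ∩ scalars)` for `SL_n(q)` and `SU_n(q)` (task 5785)

`Sl K V`, `Sc K V`, `SlW K V`, `sg ρ`; `fam_core` : `Fam` from the properties of the natural module;
`sl_sub`, `root_mem`; `count_of`; `ac_locfin`.
-/

set_option autoImplicit false
set_option linter.unusedSectionVars false

namespace Cfsg.Agent.H744.BR

open Cfsg.Agent.H883.BR
open Module (finrank)

universe u v w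

/-! ### additivity of the trace -/

section Trace

variable {k : Type*} [Field k] {S V Q : Type*} [AddCommGroup S] [Module k S] [FiniteDimensional k S]
  [AddCommGroup V] [Module k V] [FiniteDimensional k V] [AddCommGroup Q] [Module k Q] [FiniteDimensional k Q]

theorem trace_add (i : S →ₗ[k] V) (q : V →ₗ[k] Q) (hi : Function.Injective i) (hq : Function.Surjective q)
    (hiq : ∀ v, q v = 0 → ∃ s, i s = v) (hqi : ∀ s, q (i s) = 0) (f : V →ₗ[k] V) (fS : S →ₗ[k] S) (fQ : Q →ₗ[k] Q)
    (h1 : ∀ s, f (i s) = i (fS s)) (h2 : ∀ v, q (f v) = fQ (q v)) :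
    LinearMap.trace k V f = LinearMap.trace k S fS + LinearMap.trace k Q fQ := by
  obtain ⟨s, hs⟩ := q.exists_rightInverse_of_surjective (LinearMap.range_eq_top.2 hq)
  obtain ⟨j, hj⟩ := i.exists_leftInverse_of_injective (LinearMap.ker_eq_bot.2 hi)
  have hs' : ∀ x, q (s x) = x := fun x => LinearMap.congr_fun hs x
  have hj' : ∀ x, j (i x) = x := fun x => LinearMap.congr_fun hj x
  -- the projection onto `S` along `s`
  let π : V →ₗ[k] S := j ∘ₗ (LinearMap.id - s ∘ₗ q)
  have hπ : ∀ v, i (π v) = v - s (q v) := by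
    intro v
    have h3 : q (v - s (q v)) = 0 := by rw [map_sub, hs', sub_self]
    obtain ⟨x, hx⟩ := hiq _ h3
    change i (j (v - s (q v))) = _
    rw [← hx, hj']
  have hπi : ∀ x, π (i x) = x := by
    intro x
    change j (i x - s (q (i x))) = x
    rw [hqi, map_zero, sub_zero, hj']
  have hf : f = (f ∘ₗ i) ∘ₗ π + (f ∘ₗ s) ∘ₗ q := by
    ext v
    rw [LinearMap.add_apply]
    change f v = f (i (π v)) + f (s (q v))
    rw [hπ, ← map_add, sub_add_cancel]
  rw [hf, map_add, LinearMap.trace_comp_comm', LinearMap.trace_comp_comm' q]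
  congr 2
  · ext x
    change π (f (i x)) = fS x
    rw [h1, hπi]
  · ext x
    change q (f (s x)) = fQ x
    rw [h2, hs']

theorem trace_one_fd : LinearMap.trace k V 1 = (finrank k V : k) := LinearMap.trace_one k V

/-- the trace of `X ↦ A X B` -/
theorem trace_mul_mul (A B : Module.End k V) (f : Module.End k (Module.End k V)) (hf : ∀ X, f X = A * X * B) :
    LinearMap.trace k (Module.End k V) f = LinearMap.trace k V A * LinearMap.trace k V B := by
  let e : TensorProduct k (Module.Dual k V) V ≃ₗ[k] Module.End k V := dualTensorHomEquiv k V V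
  have h1 : e.conj (TensorProduct.map (Module.Dual.transpose (R := k) B) A) = f := by
    apply LinearMap.ext
    intro X
    rw [LinearEquiv.conj_apply_apply, hf]
    obtain ⟨t, rfl⟩ := e.surjective X
    rw [LinearEquiv.symm_apply_apply]
    induction t using TensorProduct.induction_on with
    | zero => simp
    | tmul φ v =>
      rw [TensorProduct.map_tmul]
      ext x
      simp [e, Module.Dual.transpose_apply]
    | add x y hx hy =>
      rw [map_add, map_add, hx, hy, map_add, mul_add, add_mul]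
  have h2 := LinearMap.trace_conj' (R := k) (M := TensorProduct k (Module.Dual k V) V) (N := Module.End k V)
    (TensorProduct.map (Module.Dual.transpose (R := k) B) A) e
  rw [h1] at h2
  rw [h2, LinearMap.trace_tensorProduct', LinearMap.trace_transpose', mul_comm]

end Trace

/-! ### `sl / (sl ∩ scalars)` -/

section sl

variable (K : Type u) (V : Type v) [Field K] [AddCommGroup V] [Module K V]

/-- trace zero -/
noncomputable def Sl : Submodule K (Module.End K V) := LinearMap.ker (LinearMap.trace K V)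

/-- scalars -/
def Sc : Submodule K (Module.End K V) := Submodule.span K {1}

/-- scalars of trace zero -/
noncomputable def Sn : Submodule K (Sl K V) := (Sc K V).comap (Sl K V).subtype

/-- `sl / (sl ∩ scalars)` -/
abbrev SlW : Type v := Sl K V ⧸ Sn K V

variable {K V}

theorem mem_Sl {X : Module.End K V} : X ∈ Sl K V ↔ LinearMap.trace K V X = 0 := Iff.rfl

theorem mem_Sc {X : Module.End K V} : X ∈ Sc K V ↔ ∃ c : K, X = c • 1 := by
  rw [Sc, Submodule.mem_span_singleton]
  exact exists_congr fun c => eq_comm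

/-- the class of `X` -/
noncomputable def mk (X : Module.End K V) (hX : X ∈ Sl K V) : SlW K V := Submodule.Quotient.mk ⟨X, hX⟩

theorem mk_eq_zero {X : Module.End K V} {hX : X ∈ Sl K V} : mk X hX = 0 ↔ ∃ c : K, X = c • 1 := by
  rw [mk, Submodule.Quotient.mk_eq_zero, ← mem_Sc]
  exact Iff.rfl

theorem exists_mk (w : SlW K V) : ∃ (X : Module.End K V) (hX : X ∈ Sl K V), mk X hX = w := by
  obtain ⟨⟨X, hX⟩, rfl⟩ := Submodule.Quotient.mk_surjective _ w
  exact ⟨X, hX, rfl⟩

theorem mk_add {X Y : Module.End K V} (hX : X ∈ Sl K V) (hY : Y ∈ Sl K V) :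
    mk X hX + mk Y hY = mk (X + Y) (add_mem hX hY) := rfl

theorem mk_smul {X : Module.End K V} (c : K) (hX : X ∈ Sl K V) :
    c • mk X hX = mk (c • X) (Submodule.smul_mem _ c hX) := rfl

theorem mk_congr {X Y : Module.End K V} (h : X = Y) (hX : X ∈ Sl K V) : mk X hX = mk Y (h ▸ hX) := by
  subst h
  rfl

/-- the endomorphism of `SlW` induced by `T` -/
noncomputable def ind (T : Module.End K (Module.End K V)) (h1 : ∀ X ∈ Sl K V, T X ∈ Sl K V) (h2 : T 1 ∈ Sc K V) :
    Module.End K (SlW K V) :=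
  (Sn K V).mapQ (Sn K V) (T.restrict h1) (by
    rintro ⟨X, hX⟩ hX'
    obtain ⟨c, rfl⟩ := mem_Sc.1 hX'
    change T (c • 1) ∈ Sc K V
    rw [map_smul]
    exact Submodule.smul_mem _ _ h2)

theorem ind_mk (T : Module.End K (Module.End K V)) (h1 : ∀ X ∈ Sl K V, T X ∈ Sl K V) (h2 : T 1 ∈ Sc K V)
    {X : Module.End K V} (hX : X ∈ Sl K V) : ind T h1 h2 (mk X hX) = mk (T X) (h1 X hX) := rfl

variable {G : Type w} [Group G]

theorem ad_mem_Sl (ρ : G →* Module.End K V) (g : G) (X : Module.End K V) (hX : X ∈ Sl K V) :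
    ad ρ g X ∈ Sl K V := by
  rw [mem_Sl] at hX ⊢
  rw [ad_apply, LinearMap.trace_mul_comm, ← mul_assoc, ← map_mul, inv_mul_cancel, map_one, one_mul, hX]

theorem ad_one' (ρ : G →* Module.End K V) (g : G) : ad ρ g 1 = 1 := by
  rw [ad_apply, mul_one, ← map_mul, mul_inv_cancel, map_one]

theorem one_mem_Sc : (1 : Module.End K V) ∈ Sc K V := mem_Sc.2 ⟨1, (one_smul _ _).symm⟩

/-- the representation on `SlW` -/
noncomputable def sg (ρ : G →* Module.End K V) : G →* Module.End K (SlW K V) where
  toFun g := ind (ad ρ g) (ad_mem_Sl ρ g) (by rw [ad_one']; exact one_mem_Sc)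
  map_one' := by
    refine LinearMap.ext fun w => ?_
    obtain ⟨X, hX, rfl⟩ := exists_mk w
    rw [ind_mk, Module.End.one_apply]
    exact mk_congr (by rw [map_one]; rfl) _
  map_mul' g h := by
    refine LinearMap.ext fun w => ?_
    obtain ⟨X, hX, rfl⟩ := exists_mk w
    rw [ind_mk, Module.End.mul_apply, ind_mk, ind_mk]
    exact mk_congr (by rw [map_mul]; rfl) _

theorem sg_mk (ρ : G →* Module.End K V) (g : G) {X : Module.End K V} (hX : X ∈ Sl K V) :
    sg ρ g (mk X hX) = mk (ad ρ g X) (ad_mem_Sl ρ g X hX) := rfl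

theorem sg_cen (ρ : G →* Module.End K V) (z : G) (c : K) (h : ρ z = c • 1) : sg ρ z = 1 := by
  refine LinearMap.ext fun w => ?_
  obtain ⟨X, hX, rfl⟩ := exists_mk w
  rw [sg_mk, Module.End.one_apply]
  refine mk_congr ?_ _
  rw [ad_apply, h, smul_mul_assoc, one_mul, smul_mul_assoc, ← mul_smul_comm]
  have h1 : c • ρ z⁻¹ = 1 := by
    have := map_mul ρ z z⁻¹
    rw [mul_inv_cancel, map_one, h, smul_mul_assoc, one_mul] at this
    exact this.symm
  rw [h1, mul_one]

/-! ### dimensions and traces -/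

section fd

variable [FiniteDimensional K V]

theorem finrank_End : finrank K (Module.End K V) = finrank K V ^ 2 := by
  rw [Module.finrank_linearMap, sq]

theorem trace_surj (h : 1 ≤ finrank K V) : Function.Surjective (LinearMap.trace K V) := by
  have hn : Nontrivial V := Module.finrank_pos_iff.1 h
  obtain ⟨v, hv⟩ := exists_ne (0 : V)
  obtain ⟨f, hf⟩ : ∃ f : Module.Dual K V, f v ≠ 0 := by
    by_contra hcon
    push Not at hcon
    exact hv ((Module.forall_dual_apply_eq_zero_iff K v).1 hcon)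
  intro c
  refine ⟨(c / f v) • f.smulRight v, ?_⟩
  rw [map_smul, LinearMap.trace_smulRight, smul_eq_mul, div_mul_cancel₀ _ hf]

theorem finrank_Sl (h : 1 ≤ finrank K V) : finrank K (Sl K V) = finrank K V ^ 2 - 1 := by
  have h1 := LinearMap.finrank_range_add_finrank_ker (LinearMap.trace K V)
  rw [LinearMap.range_eq_top.2 (trace_surj h), finrank_top, Module.finrank_self, finrank_End] at h1
  change finrank K (LinearMap.ker (LinearMap.trace K V)) = _
  omega

theorem finrank_SlW_le : finrank K (SlW K V) ≤ finrank K V ^ 2 := by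
  rw [← finrank_End]
  exact (Submodule.finrank_quotient_le _).trans (Submodule.finrank_le _)

theorem finrank_Sn_le : finrank K (Sn K V) ≤ 1 := by
  have h1 : finrank K (Sn K V) ≤ finrank K (Sc K V) := by
    refine LinearMap.finrank_le_finrank_of_injective
      (f := ((Sl K V).subtype.comp (Sn K V).subtype).codRestrict (Sc K V) (fun x => x.2)) ?_
    intro x y h
    have h2 := congrArg Subtype.val h
    exact Subtype.ext (Subtype.ext h2)
  refine h1.trans ?_
  have h2 := finrank_span_finset_le_card (R := K) ({1} : Finset (Module.End K V))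
  rw [Finset.coe_singleton, Finset.card_singleton] at h2
  exact h2

theorem trace_sg (h : 1 ≤ finrank K V) (ρ : G →* Module.End K V) (g : G) :
    LinearMap.trace K (SlW K V) (sg ρ g) =
      LinearMap.trace K V (ρ g) * LinearMap.trace K V (ρ g⁻¹) - ((1 + finrank K (Sn K V) : ℕ) : K) := by
  have h1 : LinearMap.trace K (Module.End K V) (ad ρ g) =
      LinearMap.trace K (Sl K V) ((ad ρ g).restrict (ad_mem_Sl ρ g)) + LinearMap.trace K K 1 := by
    refine trace_add (Sl K V).subtype (LinearMap.trace K V) (Subtype.val_injective) (trace_surj h)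
      (fun X hX => ⟨⟨X, hX⟩, rfl⟩) (fun s => s.2) _ _ _ (fun s => rfl) (fun X => ?_)
    rw [ad_apply, LinearMap.trace_mul_comm, ← mul_assoc, ← map_mul, inv_mul_cancel, map_one, one_mul]
    rfl
  have h2 : LinearMap.trace K (Sl K V) ((ad ρ g).restrict (ad_mem_Sl ρ g)) =
      LinearMap.trace K (Sn K V) 1 + LinearMap.trace K (SlW K V) (sg ρ g) := by
    refine trace_add (S := Sn K V) (V := Sl K V) (Q := SlW K V) (Sn K V).subtype (Sn K V).mkQ
      (Subtype.val_injective) (Submodule.mkQ_surjective _)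
      (fun X hX => ⟨⟨X, (Submodule.Quotient.mk_eq_zero _).1 hX⟩, rfl⟩)
      (fun s => (Submodule.Quotient.mk_eq_zero _).2 s.2) _ 1 (sg ρ g) (fun s => ?_) (fun X => rfl)
    obtain ⟨⟨X, hX⟩, hX'⟩ := s
    obtain ⟨c, rfl⟩ := mem_Sc.1 hX'
    apply Subtype.ext
    change ad ρ g (c • 1) = c • 1
    rw [map_smul, ad_one']
  have h3 : LinearMap.trace K (Sn K V) 1 = (finrank K (Sn K V) : K) := trace_one_fd (k := K) (V := Sn K V)
  rw [trace_mul_mul (ρ g) (ρ g⁻¹) (ad ρ g) (fun X => rfl), h2, h3, LinearMap.trace_one, Module.finrank_self] at h1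
  rw [h1]
  push_cast
  ring

/-- rank one endomorphisms of trace zero are not scalar -/
theorem sq_zero_not_scalar [Nontrivial V] {a : Module.End K V} (ha : a ≠ 0) (h2 : a * a = 0) : ¬ ∃ c : K, a = c • 1 := by
  rintro ⟨c, rfl⟩
  have h3 : c * c = 0 := by
    have h4 : (c * c) • (1 : Module.End K V) = 0 := by
      rw [← h2, smul_mul_smul_comm, mul_one]
    exact (smul_eq_zero.1 h4).resolve_right one_ne_zero
  exact ha (by rw [mul_self_eq_zero.1 h3, zero_smul])

theorem nontrivial_SlW (h2 : 2 ≤ finrank K V) : Nontrivial (SlW K V) := by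
  have hn : Nontrivial V := (Module.finrank_pos_iff (R := K)).1 (by omega)
  obtain ⟨v, hv⟩ := exists_ne (0 : V)
  -- a functional vanishing on `v`
  obtain ⟨f, hf0, hf⟩ : ∃ f : Module.Dual K V, f ≠ 0 ∧ f v = 0 := by
    have hlt : Submodule.span K {v} < ⊤ := by
      rw [lt_top_iff_ne_top]
      intro h
      have h3 := finrank_span_singleton (K := K) hv
      rw [h, finrank_top] at h3
      omega
    obtain ⟨f, hf0, hf⟩ := Submodule.exists_le_ker_of_lt_top _ hlt
    exact ⟨f, hf0, hf (Submodule.mem_span_singleton_self v)⟩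
  have ha0 : f.smulRight v ≠ 0 := by
    intro h
    apply hf0
    ext x
    have := LinearMap.congr_fun h x
    rw [LinearMap.smulRight_apply, LinearMap.zero_apply, smul_eq_zero] at this
    exact this.resolve_right hv
  have ha2 : f.smulRight v * f.smulRight v = 0 := by
    ext x
    simp only [Module.End.mul_apply, LinearMap.smulRight_apply, map_smul, hf, smul_zero, zero_smul,
      LinearMap.zero_apply]
  have hm : f.smulRight v ∈ Sl K V := by rw [mem_Sl, LinearMap.trace_smulRight, hf]
  exact ⟨mk _ hm, 0, fun h => sq_zero_not_scalar ha0 ha2 (mk_eq_zero.1 h)⟩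

/-- `inh` -/
theorem irr_sg (h2 : 2 ≤ finrank K V) (ρ : G →* Module.End K V)
    (sub : ∀ S : Submodule K (Module.End K V), Inv (ad ρ) ⊤ S → (∀ X ∈ S, ∃ c : K, X = c • 1) ∨ Sl K V ≤ S)
    (M : Subgroup G) (hM : Dns (ad ρ) M) : Irr (sg ρ) M := by
  refine ⟨nontrivial_SlW h2, fun U hU => ?_⟩
  let S : Submodule K (Module.End K V) := (U.comap (Sn K V).mkQ).map (Sl K V).subtype
  have hS : ∀ X, X ∈ S ↔ ∃ hX : X ∈ Sl K V, mk X hX ∈ U := by
    intro X
    constructor
    · rintro ⟨⟨Y, hY⟩, hYU, rfl⟩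
      exact ⟨hY, hYU⟩
    · rintro ⟨hX, hXU⟩
      exact ⟨⟨X, hX⟩, hXU, rfl⟩
  have hinv : Inv (ad ρ) M S := by
    intro h hh X hX
    obtain ⟨hX1, hX2⟩ := (hS X).1 hX
    refine (hS _).2 ⟨ad_mem_Sl ρ h X hX1, ?_⟩
    rw [← sg_mk ρ h hX1]
    exact hU h hh _ hX2
  rcases sub S (hM S hinv) with h | h
  · left
    rw [eq_bot_iff]
    intro w hw
    obtain ⟨X, hX, rfl⟩ := exists_mk w
    rw [Submodule.mem_bot]
    exact mk_eq_zero.2 (h X ((hS X).2 ⟨hX, hw⟩))
  · right
    rw [eq_top_iff]
    intro w _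
    obtain ⟨X, hX, rfl⟩ := exists_mk w
    exact ((hS X).1 (h hX)).2

theorem two_le_finrank_SlW (h2 : 2 ≤ finrank K V) : 2 ≤ finrank K (SlW K V) := by
  have h1 := Submodule.finrank_quotient_add_finrank (Sn K V)
  have h3 := finrank_Sn_le (K := K) (V := V)
  have h4 := finrank_Sl (K := K) (V := V) (by omega)
  have h5 : 2 ^ 2 ≤ finrank K V ^ 2 := Nat.pow_le_pow_left h2 2
  change finrank K (Sl K V ⧸ Sn K V) + _ = _ at h1
  change 2 ≤ finrank K (Sl K V ⧸ Sn K V)
  omega

/-- an irreducible representation of dimension `> 1` is not trivial -/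
theorem exists_ne_one {W : Type*} [AddCommGroup W] [Module K W] [FiniteDimensional K W] (σ : G →* Module.End K W)
    (h2 : 2 ≤ finrank K W) (hirr : Irr σ ⊤) : ∃ g, σ g ≠ 1 := by
  by_contra hcon
  push Not at hcon
  have hnt := hirr.1
  obtain ⟨w, hw⟩ := exists_ne (0 : W)
  have h1 := finrank_span_singleton (K := K) hw
  rcases hirr.2 (Submodule.span K {w}) (fun h _ v hv => by rw [hcon h]; exact hv) with h | h
  · rw [h, finrank_bot] at h1
    omega
  · rw [h, finrank_top] at h1
    omega

/-- `ext` -/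
theorem ext_sg {p : ℕ} (hp : p.Prime) [CharP K p] [Finite G] (h2 : 2 ≤ finrank K V) (ρ : G →* Module.End K V)
    (hinj : Function.Injective ρ)
    (sub : ∀ S : Submodule K (Module.End K V), Inv (ad ρ) ⊤ S → (∀ X ∈ S, ∃ c : K, X = c • 1) ∨ Sl K V ≤ S)
    (M U : Subgroup G) (_hUM : U ≤ M) (hU : IsPGroup p U) (hU1 : U ≠ ⊥) (w : SlW K V) (_hw : w ≠ 0)
    (hfix : ∀ v : SlW K V, (∀ u ∈ U, sg ρ u v = v) ↔ ∃ c : K, v = c • w) :
    ∃ z ∈ U, ∃ a : Module.End K V, a ≠ 0 ∧ a * a = 0 ∧ ρ z = 1 + a ∧
      (∀ b ∈ M, (∀ u ∈ U, b * u * b⁻¹ ∈ U) → ∀ c : K, sg ρ b w = c • w → ad ρ b a = c • a) ∧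
      ∀ S : Submodule K (Module.End K V), Inv (ad ρ) ⊤ S → a ∈ S → finrank K V ^ 2 - 1 ≤ Module.finrank K S := by
  have hpf : Fact p.Prime := ⟨hp⟩
  have hnV : Nontrivial V := (Module.finrank_pos_iff (R := K)).1 (by omega)
  have hnE : Nontrivial (Module.End K V) := inferInstance
  have hcE : CharP (Module.End K V) p := charP_of_injective_algebraMap (algebraMap K (Module.End K V)).injective p
  -- a fixed functional
  obtain ⟨f, -, hf0, hff⟩ : ∃ f ∈ (⊤ : Submodule K (Module.Dual K V)), f ≠ 0 ∧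
      ∀ g : U, Representation.dual (ρ.comp U.subtype : Representation K U V) g f = f := by
    refine Cfsg.Agent.H666.exists_fixed_ne_zero hU _ ⊤ (fun _ _ _ => trivial) ?_
    have : Nontrivial (Module.Dual K V) := inferInstance
    exact top_ne_bot
  have hff' : ∀ u ∈ U, ∀ x, f (ρ u⁻¹ x) = f x := by
    intro u hu x
    have := LinearMap.congr_fun (hff ⟨u, hu⟩) x
    exact this
  have hff'' : ∀ u ∈ U, ∀ x, f (ρ u x) = f x := by
    intro u hu x
    have := hff' u⁻¹ (inv_mem hu) x
    rwa [inv_inv] at this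
  -- a fixed vector in its kernel
  obtain ⟨v, hvk, hv0, hvf⟩ : ∃ v ∈ LinearMap.ker f, v ≠ 0 ∧ ∀ g : U, (ρ.comp U.subtype : Representation K U V) g v = v := by
    refine Cfsg.Agent.H666.exists_fixed_ne_zero hU _ (LinearMap.ker f) (fun g u hu => ?_) ?_
    · rw [LinearMap.mem_ker] at hu ⊢
      exact (hff'' g g.2 u).trans hu
    · intro h
      have h3 := LinearMap.finrank_range_add_finrank_ker f
      rw [h, finrank_bot] at h3
      have h4 := Submodule.finrank_le (LinearMap.range f)
      rw [Module.finrank_self] at h4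
      omega
  have hfv : f v = 0 := hvk
  have hvf' : ∀ u ∈ U, ρ u v = v := fun u hu => hvf ⟨u, hu⟩
  set a0 : Module.End K V := f.smulRight v with ha0
  have ha00 : a0 ≠ 0 := by
    intro h
    apply hf0
    ext x
    have := LinearMap.congr_fun h x
    rw [ha0, LinearMap.smulRight_apply, LinearMap.zero_apply, smul_eq_zero] at this
    exact this.resolve_right hv0
  have ha02 : a0 * a0 = 0 := by
    ext x
    simp only [ha0, Module.End.mul_apply, LinearMap.smulRight_apply, map_smul, hfv, smul_zero, zero_smul,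
      LinearMap.zero_apply]
  have ham : a0 ∈ Sl K V := by rw [mem_Sl, ha0, LinearMap.trace_smulRight, hfv]
  have had : ∀ u ∈ U, ad ρ u a0 = a0 := by
    intro u hu
    ext x
    rw [ad_apply, Module.End.mul_apply, Module.End.mul_apply, ha0, LinearMap.smulRight_apply, map_smul, hvf' u hu,
      hff' u hu, LinearMap.smulRight_apply]
  have hns := sq_zero_not_scalar ha00 ha02
  have hmk0 : mk a0 ham ≠ 0 := fun h => hns (mk_eq_zero.1 h)
  obtain ⟨c0, hc0⟩ := (hfix (mk a0 ham)).1 fun u hu => by
    rw [sg_mk]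
    exact mk_congr (had u hu) _
  have hc00 : c0 ≠ 0 := by
    rintro rfl
    exact hmk0 (by rw [hc0, zero_smul])
  -- elements of `C_U(U)`
  have key : ∀ y ∈ U, (∀ u ∈ U, u * y = y * u) → ∃ c : K, ρ y - 1 = c • a0 := by
    intro y hy hcom
    set X := ρ y - 1 with hX
    have hXn : IsNilpotent X := by
      obtain ⟨k, hk⟩ := hU ⟨y, hy⟩
      refine ⟨p ^ k, ?_⟩
      rw [hX, sub_pow_char_pow_of_commute _ _ (Commute.one_right _), one_pow, ← map_pow]
      have : y ^ p ^ k = 1 := congrArg Subtype.val hk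
      rw [this, map_one, sub_self]
    have hXt : X ∈ Sl K V := by
      rw [mem_Sl]
      exact (LinearMap.isNilpotent_trace_of_isNilpotent hXn).eq_zero
    have hXc : ∀ u ∈ U, ad ρ u X = X := by
      intro u hu
      rw [ad_apply, hX, mul_sub, sub_mul, mul_one, ← map_mul, ← map_mul, ← map_mul, hcom u hu, mul_inv_cancel_right,
        mul_inv_cancel, map_one]
    obtain ⟨c, hc⟩ := (hfix (mk X hXt)).1 fun u hu => by
      rw [sg_mk]
      exact mk_congr (hXc u hu) _
    have h3 : mk X hXt - (c / c0) • mk a0 ham = 0 := by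
      rw [hc0, smul_smul, div_mul_cancel₀ _ hc00, hc, sub_self]
    obtain ⟨s, hs⟩ := mk_eq_zero.1 (show mk (X - (c / c0) • a0) (sub_mem hXt (Submodule.smul_mem _ _ ham)) = 0 from h3)
    have hsX : X - s • 1 = (c / c0) • a0 := by rw [← hs]; abel
    have h4 : IsNilpotent (X - s • (1 : Module.End K V)) := by
      refine ⟨2, ?_⟩
      rw [hsX, sq, smul_mul_smul_comm, ha02, smul_zero]
    have h5 : IsNilpotent (s • (1 : Module.End K V)) := by
      have hcomm : Commute X (X - s • (1 : Module.End K V)) :=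
        (Commute.refl X).sub_right ((Commute.one_right X).smul_right s)
      have h6 := hcomm.isNilpotent_sub hXn h4
      have h7 : X - (X - s • (1 : Module.End K V)) = s • (1 : Module.End K V) := by abel
      rwa [h7] at h6
    have hs0 : s = 0 := by
      obtain ⟨m, hm⟩ := h5
      rw [smul_pow, one_pow, smul_eq_zero] at hm
      exact eq_zero_of_pow_eq_zero (hm.resolve_right one_ne_zero)
    exact ⟨c / c0, by rw [← hsX, hs0, zero_smul, sub_zero]⟩
  -- a central element
  have hnU : Nontrivial U := (Subgroup.nontrivial_iff_ne_bot U).2 hU1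
  have hfU : Finite U := inferInstance
  have hcen := hU.center_nontrivial
  obtain ⟨⟨z, hzc⟩, hz1⟩ := exists_ne (1 : Subgroup.center U)
  have hzcom : ∀ u ∈ U, u * (z : G) = (z : G) * u := by
    intro u hu
    exact congrArg Subtype.val (Subgroup.mem_center_iff.1 hzc ⟨u, hu⟩)
  have hz1' : (z : G) ≠ 1 := by
    intro h
    exact hz1 (Subtype.ext (Subtype.ext h))
  obtain ⟨cz, hcz⟩ := key z z.2 hzcom
  have hcz0 : cz ≠ 0 := by
    rintro rfl
    rw [zero_smul, sub_eq_zero] at hcz
    exact hz1' (hinj (by rw [hcz, map_one]))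
  have hane : cz • a0 ≠ 0 := smul_ne_zero hcz0 ha00
  have haa : (cz • a0) * (cz • a0) = 0 := by rw [smul_mul_smul_comm, ha02, smul_zero]
  refine ⟨z, z.2, cz • a0, hane, haa, by rw [← hcz]; abel, ?_, ?_⟩
  · intro b hb hbU c hc
    have hbij : ∀ u ∈ U, ∃ u' ∈ U, b * u' * b⁻¹ = u := by
      intro u hu
      have hinjU : Function.Injective (fun x : U => (⟨b * x * b⁻¹, hbU x x.2⟩ : U)) := by
        intro x y hxy
        have := congrArg Subtype.val hxy
        apply Subtype.ext
        simpa using this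
      obtain ⟨x, hx⟩ := (Finite.injective_iff_surjective.1 hinjU) ⟨u, hu⟩
      exact ⟨x, x.2, congrArg Subtype.val hx⟩
    obtain ⟨c', hc'⟩ := key (b * z * b⁻¹) (hbU z z.2) (by
      intro u hu
      obtain ⟨u', hu', rfl⟩ := hbij u hu
      have h3 := hzcom u' hu'
      calc b * u' * b⁻¹ * (b * (z : G) * b⁻¹) = b * (u' * (z : G)) * b⁻¹ := by group
        _ = b * ((z : G) * u') * b⁻¹ := by rw [h3]
        _ = _ := by group)
    have h3 : ad ρ b (cz • a0) = c' • a0 := by
      rw [← hcz, ← hc', ad_apply, map_mul, map_mul, mul_sub, sub_mul, mul_one, ← map_mul ρ b b⁻¹, mul_inv_cancel,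
        map_one]
    have ham' : cz • a0 ∈ Sl K V := Submodule.smul_mem _ _ ham
    have h4 : sg ρ b (mk (cz • a0) ham') = c • mk (cz • a0) ham' := by
      have h5 : mk (cz • a0) ham' = (cz * c0) • w := by
        have h7 : mk (cz • a0) ham' = cz • mk a0 ham := rfl
        rw [h7, hc0, smul_smul]
      rw [h5, map_smul, hc, smul_comm]
    have h5 : mk (c' • a0) (Submodule.smul_mem _ _ ham) = c • mk (cz • a0) ham' := by
      rw [← h4, sg_mk]
      exact mk_congr h3.symm _
    have h6 : c' = c * cz := by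
      rw [mk_smul] at h5
      have h7 : mk (c' • a0) (Submodule.smul_mem _ _ ham) = c' • mk a0 ham := rfl
      have h8 : mk (c • cz • a0) (Submodule.smul_mem _ c ham') = (c * cz) • mk a0 ham := by
        rw [mul_smul]
        rfl
      rw [h7, h8] at h5
      exact smul_left_injective K hmk0 h5
    rw [h3, h6, mul_smul]
  · intro S hS haS
    rcases sub S hS with h | h
    · exact absurd (h _ haS) (sq_zero_not_scalar hane haa)
    · rw [← finrank_Sl (by omega)]
      exact Submodule.finrank_mono h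

end fd

/-! ### root elements -/

/-- the inverse of `1 + t a` -/
theorem rho_inv (ρ : G →* Module.End K V) {g : G} {a : Module.End K V} (ha : a * a = 0) {t : K} (h : ρ g = 1 + t • a) :
    ρ g⁻¹ = 1 - t • a := by
  have h1 : ρ g * (1 - t • a) = 1 := by
    have h2 : ∀ b : Module.End K V, (1 + b) * (1 - b) = 1 - b * b := fun b => by noncomm_ring
    rw [h, h2, smul_mul_smul_comm, ha, smul_zero, sub_zero]
  calc ρ g⁻¹ = ρ g⁻¹ * (ρ g * (1 - t • a)) := by rw [h1, mul_one]
    _ = 1 - t • a := by rw [← mul_assoc, ← map_mul, inv_mul_cancel, map_one, one_mul]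

theorem ad_root (ρ : G →* Module.End K V) {g : G} {a : Module.End K V} (ha : a * a = 0) {t : K} (h : ρ g = 1 + t • a)
    (X : Module.End K V) : ad ρ g X = X + t • (a * X - X * a) - t ^ 2 • (a * X * a) := by
  have h2 : ∀ b : Module.End K V, (1 + b) * X * (1 - b) = X + b * X - X * b - b * X * b :=
    fun b => by noncomm_ring
  have h3 : (t • a) * X * (t • a) = t ^ 2 • (a * X * a) := by
    rw [smul_mul_assoc, smul_mul_assoc, mul_smul_comm, smul_smul, sq]
  rw [ad_apply, rho_inv ρ ha h, h, h2, h3, smul_mul_assoc, mul_smul_comm, smul_sub]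
  abel

/-- E2 -/
theorem root_mem {F : Subfield K} [Finite F] (h3 : 3 ≤ Nat.card F) {ρ : G →* Module.End K V}
    {S : Submodule K (Module.End K V)} (hS : Inv (ad ρ) ⊤ S) {a X : Module.End K V} (ha : Rt ρ F ⊤ a) (hX : X ∈ S) :
    a * X - X * a ∈ S ∧ a * X * a ∈ S := by
  obtain ⟨s, hs0, hs1⟩ : ∃ s : F, s ≠ 0 ∧ s ≠ 1 := by
    classical
    have := Fintype.ofFinite F
    by_contra hcon
    push Not at hcon
    have h1 : (Finset.univ : Finset F) ⊆ {0, 1} := by
      intro x _
      simp only [Finset.mem_insert, Finset.mem_singleton]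
      by_cases hx : x = 0
      · exact Or.inl hx
      · exact Or.inr (hcon x hx)
    have h2 := Finset.card_le_card h1
    have h4 : ({0, 1} : Finset F).card ≤ 2 := Finset.card_le_two
    rw [Finset.card_univ, ← Nat.card_eq_fintype_card] at h2
    omega
  have hs0' : (s : K) ≠ 0 := fun h => hs0 (Subtype.ext h)
  have hs1' : (s : K) ≠ 1 := fun h => hs1 (Subtype.ext h)
  have key : ∀ t ∈ F, t • (a * X - X * a) - t ^ 2 • (a * X * a) ∈ S := by
    intro t ht
    obtain ⟨g, hg, hg'⟩ := ha.2 t ht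
    have h1 := hS g hg X hX
    rw [ad_root ρ ha.1 hg'] at h1
    have h2 := sub_mem h1 hX
    have h4 : X + t • (a * X - X * a) - t ^ 2 • (a * X * a) - X = t • (a * X - X * a) - t ^ 2 • (a * X * a) := by abel
    rwa [h4] at h2
  have k1 := key 1 (one_mem F)
  have k2 := key s s.2
  rw [one_smul, one_pow, one_smul] at k1
  have h5 : a * X * a ∈ S := by
    have h6 : ((s : K) * (s - 1)) • (a * X * a) ∈ S := by
      have h7 : ((s : K) * (s - 1)) • (a * X * a) =
          (s : K) • (a * X - X * a - a * X * a) - ((s : K) • (a * X - X * a) - (s : K) ^ 2 • (a * X * a)) := by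
        module
      rw [h7]
      exact sub_mem (Submodule.smul_mem _ _ k1) k2
    exact (Submodule.smul_mem_iff _ (mul_ne_zero hs0' (sub_ne_zero.2 hs1'))).1 h6
  refine ⟨?_, h5⟩
  have := add_mem k1 h5
  rwa [sub_add_cancel] at this

/-- `G`-invariant subspaces of `End V` are scalar or contain `sl` -/
theorem sl_sub {F : Subfield K} [Finite F] (h3 : 3 ≤ Nat.card F) {ρ : G →* Module.End K V} (A : Set (Module.End K V))
    (hA : ∀ a ∈ A, Rt ρ F ⊤ a) (hr : ∀ a ∈ A, ∀ X : Module.End K V, ∃ c : K, a * X * a = c • a)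
    (hconj : ∀ S : Submodule K (Module.End K V), Inv (ad ρ) ⊤ S → ∀ a ∈ A, a ∈ S → ∀ b ∈ A, b ∈ S)
    (hspan : Sl K V ≤ Submodule.span K A)
    (hX : ∀ X : Module.End K V, (∀ a ∈ A, a * X * a = 0) → ∃ c : K, X = c • 1)
    (S : Submodule K (Module.End K V)) (hS : Inv (ad ρ) ⊤ S) : (∀ X ∈ S, ∃ c : K, X = c • 1) ∨ Sl K V ≤ S := by
  by_cases h : ∃ X ∈ S, ¬ ∃ c : K, X = c • 1
  · right
    obtain ⟨X, hXS, hXn⟩ := h
    obtain ⟨a, ha, hne⟩ : ∃ a ∈ A, a * X * a ≠ 0 := by
      by_contra hcon
      push Not at hcon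
      exact hXn (hX X hcon)
    obtain ⟨c, hc⟩ := hr a ha X
    have hc0 : c ≠ 0 := by
      rintro rfl
      exact hne (by rw [hc, zero_smul])
    have h1 := (root_mem h3 hS (hA a ha) hXS).2
    rw [hc] at h1
    have haS : a ∈ S := (Submodule.smul_mem_iff _ hc0).1 h1
    exact hspan.trans (Submodule.span_le.2 fun b hb => hconj S hS a ha haS b hb)
  · left
    push Not at h
    exact h

/-- `x i 0 = 1` -/
theorem x_zero {F : Subfield K} {ι : Type*} {x : ι → F → G} (hx : OneP F x) (i : ι) : x i 0 = 1 := by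
  have h := hx.add i 0 0
  rw [add_zero] at h
  exact (mul_eq_left.1 h.symm)

/-- a polynomial of degree one comes from a square zero endomorphism -/
theorem exists_E {F : Subfield K} {ι : Type*} {x : ι → F → G} (hx : OneP F x) {ρ : G →* Module.End K V}
    (h : PolyDeg ρ F x 1) (i : ι) :
    ∃ E : Module.End K V, E * E = 0 ∧ ∀ t : F, ρ (x i t) = 1 + (t : K) • E := by
  obtain ⟨c, hc⟩ := h i
  have hc' : ∀ t : F, ρ (x i t) = c 0 + (t : K) • c 1 := by
    intro t
    rw [hc t, Finset.sum_range_succ, Finset.sum_range_succ, Finset.sum_range_zero, zero_add, pow_zero, pow_one,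
      one_smul]
  have h0 : c 0 = 1 := by
    have := hc' 0
    rw [x_zero hx, map_one] at this
    simpa using this.symm
  rw [h0] at hc'
  refine ⟨c 1, ?_, hc'⟩
  have h1 := hx.add i 1 1
  have h2 := congrArg ρ h1
  rw [map_mul, hc', hc'] at h2
  have h3 : ((1 + 1 : F) : K) = 1 + 1 := by push_cast; ring
  rw [h3, mul_add, add_mul, add_mul, one_mul, mul_one, one_mul, add_smul] at h2
  have h4 : ((1 : F) : K) = 1 := rfl
  rw [h4, one_smul] at h2
  have h5 : (c 1) * (c 1) = (1 + c 1 + (c 1 + c 1 * c 1)) - (1 + (c 1 + c 1)) := by abel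
  rw [h5, ← h2, sub_self]

theorem polyDeg_sg {F : Subfield K} {ι : Type*} {x : ι → F → G} (hx : OneP F x) {ρ : G →* Module.End K V}
    (h : PolyDeg ρ F x 1) : PolyDeg (sg ρ) F x 2 := by
  intro i
  obtain ⟨E, hE, hρ⟩ := exists_E hx h i
  let T1 : Module.End K (Module.End K V) := LinearMap.mulLeft K E - LinearMap.mulRight K E
  let T2 : Module.End K (Module.End K V) := LinearMap.mulLeft K E ∘ₗ LinearMap.mulRight K E
  have hT1 : ∀ X, T1 X = E * X - X * E := fun X => rfl
  have hT2 : ∀ X, T2 X = E * X * E := fun X => (mul_assoc E X E).symm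
  have a1 : ∀ X ∈ Sl K V, T1 X ∈ Sl K V := by
    intro X _
    rw [mem_Sl, hT1, map_sub, LinearMap.trace_mul_comm, sub_self]
  have b1 : T1 1 ∈ Sc K V := by
    rw [hT1, mul_one, one_mul, sub_self]
    exact zero_mem _
  have a2 : ∀ X ∈ Sl K V, T2 X ∈ Sl K V := by
    intro X _
    rw [mem_Sl, hT2, LinearMap.trace_mul_comm, ← mul_assoc, hE, zero_mul, map_zero]
  have b2 : T2 1 ∈ Sc K V := by
    rw [hT2, mul_one, hE]
    exact zero_mem _
  refine ⟨fun j => if j = 0 then 1 else if j = 1 then ind T1 a1 b1 else -(ind T2 a2 b2), fun t => ?_⟩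
  rw [Finset.sum_range_succ, Finset.sum_range_succ, Finset.sum_range_succ, Finset.sum_range_zero, zero_add]
  change sg ρ (x i t) = (t : K) ^ 0 • (1 : Module.End K (SlW K V)) + (t : K) ^ 1 • ind T1 a1 b1 +
    (t : K) ^ 2 • (-(ind T2 a2 b2))
  rw [pow_zero, pow_one, one_smul]
  refine LinearMap.ext fun w => ?_
  obtain ⟨X, hX, rfl⟩ := exists_mk w
  rw [sg_mk, LinearMap.add_apply, LinearMap.add_apply, LinearMap.smul_apply, LinearMap.smul_apply, LinearMap.neg_apply,
    ind_mk, ind_mk, Module.End.one_apply, smul_neg, ← sub_eq_add_neg]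
  have h1 : mk (ad ρ (x i t) X) (ad_mem_Sl ρ (x i t) X hX) =
      mk (X + (t : K) • T1 X - (t : K) ^ 2 • T2 X)
        (sub_mem (add_mem hX (Submodule.smul_mem _ _ (a1 X hX))) (Submodule.smul_mem _ _ (a2 X hX))) :=
    mk_congr (by rw [ad_root ρ hE (hρ t), hT1, hT2]) _
  rw [h1]
  rfl

end sl

/-! ### The family -/

/-- **the generic part of `Fam` for `SL` and `SU`** -/
theorem fam_core {p n q : ℕ} {K : Type u} [Field K] {F : Subfield K} {G : Type w} [Group G] {V : Type u}
    [AddCommGroup V] [Module K V] {ρ : G →* Module.End K V} (prime : p.Prime) (char : CharP K p)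
    (closed : IsAlgClosed K) (locfin : ∀ S : Set K, S.Finite → ∃ E : Subfield K, Finite E ∧ S ⊆ E)
    (finF : Finite F) (cardF : Nat.card F = q) (finG : Finite G) (qs : QS G) (fdV : FiniteDimensional K V)
    (dimV : finrank K V = n) (two_le : 2 ≤ n) (inj : Function.Injective ρ) (irr : Irr ρ ⊤) (tprim : TPrim ρ)
    (root : ∃ (ι : Type w) (x : ι → F → G), OneP F x ∧ PolyDeg ρ F x 1)
    (sub : ∀ S : Submodule K (Module.End K V), Inv (ad ρ) ⊤ S → (∀ X ∈ S, ∃ c : K, X = c • 1) ∨ Sl K V ≤ S)
    (count : ∀ M : Subgroup G, M ≠ ⊤ → Nat.card M < Nat.choose (q - 1 + (n ^ 2 - 1)) (n ^ 2 - 1))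
    (trF : ∀ g : G, LinearMap.trace K V (ρ g) * LinearMap.trace K V (ρ g⁻¹) ∈ F) (hq : 2 * n ^ 2 < q)
    (pw : ∀ k, 0 < k → 2 * k + 1 < q → ∃ g : G, ad ρ (g ^ k) ≠ 1) :
    Fam p n (n ^ 2 - 1) q F ρ (sg ρ) where
  prime := prime
  char := char
  closed := closed
  locfin := locfin
  finF := finF
  cardF := cardF
  finG := finG
  qs := qs
  fdV := fdV
  fdW := inferInstance
  dimV := dimV
  two_le := two_le
  dimW := by rw [← dimV]; exact finrank_SlW_le
  inj := inj
  irr := irr
  tprim := tprim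
  root := by
    obtain ⟨ι, x, hx, hp⟩ := root
    exact ⟨ι, x, hx, hp, polyDeg_sg hx hp⟩
  inh := fun M hM => irr_sg (by omega) ρ sub M hM
  cen := sg_cen ρ
  ext := by
    intro M U hUM hU hU1 _ w hw hfix
    rw [← dimV]
    exact ext_sg prime (by omega) ρ inj sub M U hUM hU hU1 w hw hfix
  count := count
  trF := fun g => by
    rw [trace_sg (by omega)]
    exact sub_mem (trF g) (natCast_mem F _)
  trn := by
    obtain ⟨ι, x, hx, hp⟩ := root
    have hirr : Irr (sg ρ) ⊤ := irr_sg (by omega) ρ sub ⊤ (fun _ h => h)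
    refine Cfsg.Agent.H583.BR.Trn.trn_of_irr hirr hx (polyDeg_sg hx hp) ?_
      (exists_ne_one (sg ρ) (two_le_finrank_SlW (by omega)) hirr)
    have h1 := finrank_SlW_le (K := K) (V := V)
    rw [dimV] at h1
    rw [cardF]
    omega
  pw := pw

/-! ### Counting -/

/-- proper subgroups of a quasisimple group of order `≤ c q ^ d` -/
theorem count_of {G : Type w} [Group G] [Finite G] (hG : QS G) {c d q : ℕ} (hq : 1 ≤ q) (h1 : Nat.card G ≤ c * q ^ d)
    (h2 : (c * d.factorial).factorial * Nat.card (Subgroup.center G) < Nat.card G) (M : Subgroup G) (hM : M ≠ ⊤) :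
    Nat.card M < Nat.choose (q - 1 + d) d := by
  have hcore : M.normalCore ≤ Subgroup.center G := by
    rcases hG.max M.normalCore inferInstance with h | h
    · exact h
    · exact absurd (top_le_iff.1 (h ▸ M.normalCore_le)) hM
  have h3 : Nat.card G ≤ M.index.factorial * Nat.card (Subgroup.center G) := by
    have h4 : M.normalCore.index ∣ M.index.factorial := by
      have h5 : (MulAction.toPermHom G (G ⧸ M)).ker = M.normalCore := (Subgroup.normalCore_eq_ker M).symm
      rw [← h5, Subgroup.index_ker, Subgroup.index, ← Nat.card_perm]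
      exact Subgroup.card_subgroup_dvd_card _
    have h6 : M.normalCore.index ≤ M.index.factorial := Nat.le_of_dvd (Nat.factorial_pos _) h4
    have h7 : Nat.card M.normalCore ≤ Nat.card (Subgroup.center G) := Nat.card_mono (Set.toFinite _) hcore
    rw [← Subgroup.index_mul_card M.normalCore]
    exact Nat.mul_le_mul h6 h7
  have h4 : c * d.factorial < M.index := by
    by_contra hcon
    push Not at hcon
    have h5 : M.index.factorial ≤ (c * d.factorial).factorial := Nat.factorial_le hcon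
    have h6 := Nat.mul_le_mul_right (Nat.card (Subgroup.center G)) h5
    omega
  have h5 := Subgroup.index_mul_card M
  have h6 : q ^ d ≤ d.factorial * Nat.choose (q - 1 + d) d := by
    have h7 := Nat.pow_succ_le_ascFactorial q d
    have h8 := Nat.ascFactorial_eq_factorial_mul_choose (q - 1) d
    rw [Nat.sub_add_cancel hq] at h8
    rw [h8] at h7
    exact h7
  have hM0 : 0 < Nat.card M := Nat.card_pos
  by_contra hcon
  push Not at hcon
  have h7 : M.index * Nat.card M ≤ (c * d.factorial) * Nat.card M := by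
    calc M.index * Nat.card M = Nat.card G := h5
      _ ≤ c * q ^ d := h1
      _ ≤ c * (d.factorial * Nat.choose (q - 1 + d) d) := Nat.mul_le_mul_left _ h6
      _ ≤ c * (d.factorial * Nat.card M) := Nat.mul_le_mul_left _ (Nat.mul_le_mul_left _ hcon)
      _ = (c * d.factorial) * Nat.card M := by ring
  have h8 := Nat.le_of_mul_le_mul_right h7 hM0
  omega

/-- the algebraic closure of a finite field is locally finite -/
theorem ac_locfin (F : Type u) [Field F] [Finite F] (S : Set (AlgebraicClosure F)) (hS : S.Finite) :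
    ∃ E : Subfield (AlgebraicClosure F), Finite E ∧ S ⊆ E := by
  have hfd : FiniteDimensional F (IntermediateField.adjoin F S) := by
    have := hS.to_subtype
    exact IntermediateField.finiteDimensional_adjoin fun x _ => Algebra.IsIntegral.isIntegral x
  refine ⟨(IntermediateField.adjoin F S).toSubfield, ?_, IntermediateField.subset_adjoin F S⟩
  exact Module.finite_of_finite F (M := IntermediateField.adjoin F S)

end Cfsg.Agent.H744.BR
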